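import Cfsg.Agent.Chev.ExtraChk
import Cfsg.Agent.Chev.All

/-!
`Extra` for the datum of type D4.
-/

set_option autoImplicit false
set_option maxHeartbeats 4000000
set_option maxRecDepth 100000

namespace Cfsg.Agent.Chev

open Cfsg.Lie

theorem extra_chevD4 : Extra chevD4 :=
  extra_of_chk (l := [(6, 22), (1, 23), (3, 22), (2, 22)]) (by decide +kernel) (by decide +kernel)

end Cfsg.Agent.Chev
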